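import Groth.Agent.ThickPC.Sheaf
import Groth.Agent.ThickPC.Main
import Groth.Agent.FpqcPerf7.QCoh
import Groth.Agent.PerfGen7.RelLpull

/-!
# Pseudo-coherence descends along fppf morphisms
-/

set_option autoImplicit false
set_option linter.style.haveILetI false
set_option backward.isDefEq.respectTransparency false
set_option backward.isDefEq.respectTransparency.types false
set_option maxHeartbeats 800000

universe u

open CategoryTheory CategoryTheory.Limits AlgebraicGeometry TopologicalSpace Pretriangulated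

attribute [local instance] HasDerivedCategory.standard

noncomputable section

namespace Groth.Agent.FppfPC7

open Groth.Agent.KFlatLib Groth.Agent.ThickPC Groth.Agent.FpqcPerf7

variable {X Y : Scheme.{u}}

/-- The image of an open under a flat morphism of finite presentation. -/
def imageOpen (i : X ⟶ Y) [Flat i] [LocallyOfFinitePresentation i] (O : X.Opens) : Y.Opens :=
  ⟨i.base '' O, i.isOpenMap _ O.2⟩

theorem le_preimage (i : X ⟶ Y) [Flat i] [LocallyOfFinitePresentation i] (O : X.Opens) :
    O ≤ i ⁻¹ᵁ imageOpen i O := fun x hx => ⟨x, hx, rfl⟩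

theorem surjective_resLE (i : X ⟶ Y) [Flat i] [LocallyOfFinitePresentation i] (O : X.Opens) :
    Surjective (i.resLE (imageOpen i O) O (le_preimage i O)) := by
  refine ⟨fun y => ?_⟩
  obtain ⟨x, hx, hxy⟩ := y.2
  refine ⟨⟨x, hx⟩, Subtype.ext ?_⟩
  have h := congrArg (fun t => t.base (⟨x, hx⟩ : O)) (Scheme.Hom.resLE_comp_ι i (le_preimage i O))
  exact h.trans hxy

/-- A module is finite at a point if its flat pullback is. -/
theorem finite_stalk_of_pullback (i : X ⟶ Y) [Flat i] (H : Y.Modules) (y : X)
    (h : Module.Finite (X.presheaf.stalk y)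
      ((DerSch.stalkFunctor X y).obj ((Scheme.Modules.pullback i).obj H) : Type u)) :
    Module.Finite (Y.presheaf.stalk (i.base y)) ((DerSch.stalkFunctor Y (i.base y)).obj H : Type u) := by
  letI := (i.stalkMap y).hom.toAlgebra
  haveI : IsLocalHom (algebraMap (Y.presheaf.stalk (i.base y)) (X.presheaf.stalk y)) :=
    inferInstanceAs (IsLocalHom (i.stalkMap y).hom)
  haveI : Module.Flat (Y.presheaf.stalk (i.base y)) (X.presheaf.stalk y) := Flat.stalkMap i y
  haveI : Module.FaithfullyFlat (Y.presheaf.stalk (i.base y)) (X.presheaf.stalk y) :=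
    Module.FaithfullyFlat.of_flat_of_isLocalHom
  haveI : Module.Finite (X.presheaf.stalk y) (TensorProduct (Y.presheaf.stalk (i.base y)) (X.presheaf.stalk y)
      ((DerSch.stalkFunctor Y (i.base y)).obj H : Type u)) :=
    haveI : Module.Finite (X.presheaf.stalk y)
        ((Scheme.Modules.pullback i ⋙ DerSch.stalkFunctor X y).obj H : Type u) := h
    Module.Finite.equiv ((stalkPullbackIso i y).app H).toLinearEquiv
  exact Module.Finite.of_finite_tensorProduct_of_faithfullyFlat (X.presheaf.stalk y)

/-- Descent, by induction on the top degree. -/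
theorem locPC_of_lpull_aux (k : ℕ) : ∀ {X Y : Scheme.{u}} (i : X ⟶ Y) [Flat i] [Surjective i]
    [LocallyOfFinitePresentation i] [DCoh.HasLpull i], ∀ (m : ℤ) (K : DCoh.D Y),
      (∀ j, m + k ≤ j → IsZero (DCoh.HD ((DCoh.Lpull i).obj K) j)) →
      LocPC m ((DCoh.Lpull i).obj K) → LocPC m K := by
  induction k with
  | zero =>
    intro X Y i _ _ _ _ m K hz _
    refine locPC_of_isZero m K fun j hj => isZero_of_isZero_pullback i _ ?_
    exact (hz j (by push_cast; omega)).of_iso (nonempty_hd_lpull i K j).some.symm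
  | succ k ih =>
    intro X Y i _ _ _ _ m K hz hpc
    let b : ℤ := m + k
    have hzX : ∀ j, b < j → IsZero (DCoh.HD ((DCoh.Lpull i).obj K) j) := fun j hj =>
      hz j (by push_cast; omega)
    have hzY : ∀ j, b < j → IsZero (DCoh.HD K j) := fun j hj =>
      isZero_of_isZero_pullback i _ ((hzX j hj).of_iso (nonempty_hd_lpull i K j).some.symm)
    refine LocPC.of_local fun x => ?_
    obtain ⟨y, rfl⟩ := i.surjective x
    haveI := finite_stalk_of_pullback i (DCoh.HD K b) y (finite_stalk_of_isFT'
      (isFT_of_iso' (nonempty_hd_lpull i K b).some (isFT_top (hpc.mono (show m ≤ b by omega)) hzX)) y)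
    let P := repK K
    let S := DerSch.stalkFunctor Y (i.base y)
    haveI : Module.Finite (Y.presheaf.stalk (i.base y)) (S.obj (P.homology b) : Type u) :=
      Module.Finite.equiv (S.mapIso (hdRepIso (repKIso K) b)).toLinearEquiv
    obtain ⟨n, π₀, hπ₀⟩ := Module.Finite.exists_fin' (Y.presheaf.stalk (i.base y)) (S.obj (P.homology b) : Type u)
    have hπs : Function.Surjective (S.map (P.homologyπ b)) :=
      (ModuleCat.epi_iff_surjective _).1 inferInstance
    choose v hv using fun l : Fin n => hπs (π₀ (Pi.single l 1))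
    obtain ⟨W, hW, hgs⟩ := exists_of_germs (P.cycles b) (i.base y) v
    obtain ⟨g, hg⟩ := hgs W hW le_rfl
    let R := Scheme.Modules.restrictFunctor W.ι
    let h := g ≫ R.map (P.homologyπ b)
    have hh : Function.Surjective (stalkAt hW h) := by
      have e : ∀ l, stalkAt hW h (eGerm (i.base y) l) = π₀ (Pi.single l 1) := fun l => by
        rw [stalkAt_comp, stalkAt_map, CategoryTheory.comp_apply, hg l, hv l]
      have htop : LinearMap.range (stalkAt hW h).hom = ⊤ := by
        refine top_le_iff.1 fun z _ => ?_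
        obtain ⟨c, rfl⟩ := hπ₀ z
        rw [pi_eq_sum_univ c, map_sum]
        refine Submodule.sum_mem _ fun l _ => ?_
        rw [map_smul]
        refine Submodule.smul_mem _ _ ⟨eGerm (i.base y) l, (e l).trans (congrArg π₀ ?_)⟩
        ext q
        simp [Pi.single_apply, eq_comm]
      exact LinearMap.range_eq_top.1 htop
    haveI := epi_stalk_restrict hW h hh
    let P' := (rCx W.ι).obj P
    let F0 := (FlatMod.freeMod Y n).restrict W.ι
    let sF := (HomologicalComplex.single (W : Scheme.{u}).Modules (ComplexShape.up ℤ) b).obj F0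
    let φ : sF ⟶ P' := HomologicalComplex.mkHomFromSingle (g ≫ R.map (P.iCycles b)) fun j _ => by
      rw [Category.assoc]
      show g ≫ R.map (P.iCycles b) ≫ R.map (P.d b j) = 0
      rw [← Functor.map_comp, HomologicalComplex.iCycles_d, Functor.map_zero, comp_zero]
    let T' := DerSch.stalkFunctor (W : Scheme.{u}) ⟨i.base y, hW⟩
    have hepi : Epi (T'.map (HomologicalComplex.homologyMap φ b)) := by
      have hcyc : (HomologicalComplex.singleObjCyclesSelfIso (ComplexShape.up ℤ) b F0).inv ≫
          HomologicalComplex.cyclesMap φ b = g ≫ ((P.sc b).mapCyclesIso R).inv := by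
        rw [← cancel_mono (P'.iCycles b), Category.assoc, HomologicalComplex.cyclesMap_i,
          HomologicalComplex.singleObjCyclesSelfIso_inv_iCycles_assoc, Category.assoc]
        erw [show ((P.sc b).mapCyclesIso R).inv ≫ P'.iCycles b = R.map (P.iCycles b) from by
          rw [Iso.inv_comp_eq]; exact ((P.sc b).mapCyclesIso_hom_iCycles R).symm]
        simp [φ]
      have key : ((HomologicalComplex.singleObjCyclesSelfIso (ComplexShape.up ℤ) b F0).inv ≫ sF.homologyπ b) ≫
          HomologicalComplex.homologyMap φ b ≫ ((P.sc b).mapHomologyIso R).hom = h := by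
        rw [Category.assoc, HomologicalComplex.homologyπ_naturality_assoc, reassoc_of% hcyc]
        erw [mapCyclesIso_π (P.sc b) R]
        rfl
      have hTh := (inferInstance : Epi (T'.map h))
      rw [← key, Functor.map_comp _ _ (_ ≫ _), Functor.map_comp _ (HomologicalComplex.homologyMap φ b)] at hTh
      haveI : Epi (T'.map ((HomologicalComplex.singleObjCyclesSelfIso (ComplexShape.up ℤ) b F0).inv ≫ sF.homologyπ b) ≫
        T'.map (HomologicalComplex.homologyMap φ b) ≫ T'.map ((P.sc b).mapHomologyIso R).hom) := hTh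
      haveI := epi_of_epi (T'.map ((HomologicalComplex.singleObjCyclesSelfIso (ComplexShape.up ℤ) b F0).inv ≫
        sF.homologyπ b)) (T'.map (HomologicalComplex.homologyMap φ b) ≫ T'.map ((P.sc b).mapHomologyIso R).hom)
      exact (epi_comp_iff_of_isIso _ (T'.map ((P.sc b).mapHomologyIso R).hom)).1 inferInstance
    let T := DerivedCategory.Q.mapTriangle.obj (CochainComplex.mappingCone.triangle φ)
    have hT : T ∈ distinguishedTriangles := DerivedCategory.mappingCone_triangle_distinguished φ
    let L := T.obj₃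
    let i' := i ∣_ W
    haveI : Surjective i' := IsZariskiLocalAtTarget.restrict ‹Surjective i› W
    haveI := hasLpull i'
    have hF0 : FlatMod.IsFinLocFree F0 :=
      H23.PullPush.isFinLocFree_of_iso (restrictFreeModIso W n).symm (isFinLocFree_freeMod n)
    have hsz : ∀ l, l ≠ b → IsZero (sF.X l) := fun l hl =>
      HomologicalComplex.isZero_single_obj_X (ComplexShape.up ℤ) b F0 l hl
    have hsf : ∀ l, FlatMod.IsFinLocFree (sF.X l) := fun l => by
      rcases eq_or_ne l b with rfl | hl
      · exact H23.PullPush.isFinLocFree_of_iso (HomologicalComplex.singleObjXSelf _ b F0).symm hF0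
      · exact isFinLocFree_of_isZero (hsz l hl)
    haveI : CochainComplex.IsStrictlyLE sF b := (CochainComplex.isStrictlyLE_iff sF b).2 fun l hl => hsz l (by omega)
    have hsK : DCoh.IsKFlat sF := isKFlat_of_isStrictlyLE sF b fun l => isFlat_of_isFinLocFree (hsf l)
    have hP' : DCoh.IsKFlat P' := isKFlat_restrict W.ι (isKFlat_repK K)
    have hLK : DCoh.IsKFlat (CochainComplex.mappingCone φ) := kFlat_cone (T := DCoh.tensorBi) φ hsK hP'
    let φ' := (pullCx i').map φ
    have hsp : DCoh.IsStrictlyPerfect ((pullCx i').obj sF) :=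
      ⟨⟨b, b, fun l hl => (Scheme.Modules.pullback i').map_isZero (hsz l (by omega))⟩,
        fun l => isFinLocFree_pullback i' (hsf l)⟩
    have h1 : ∀ q, LocPC q (DerivedCategory.Q.obj ((pullCx i').obj sF)) := fun q w =>
      ⟨_, 𝟙 _, inferInstance, ⟨w, rfl⟩, _, ((rhoQ (𝟙 _)).app _).inv,
        isStrictlyPerfect_restrict (𝟙 _) hsp, isPcMap_of_isIso _ _⟩
    let eP : DerivedCategory.Q.obj P' ≅ (rho W.ι).obj K :=
      ((rhoQ W.ι).app P).symm ≪≫ (rho W.ι).mapIso (repKIso K)
    obtain ⟨eSq⟩ := PerfGen7.nonempty_lpull_square i i' W.ι (i ⁻¹ᵁ W).ι (morphismRestrict_ι i W).symm K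
    have h2 : LocPC m (DerivedCategory.Q.obj ((pullCx i').obj P')) :=
      (hpc.restrict (i ⁻¹ᵁ W).ι).of_iso
        (eSq ≪≫ (DCoh.Lpull i').mapIso eP.symm ≪≫ lpullIso i' hP')
    have hLpc : LocPC m ((DCoh.Lpull i').obj L) :=
      (locPC_obj₃ _ (DerivedCategory.mappingCone_triangle_distinguished φ') (h1 (m + 1)) h2).of_iso
        (DerivedCategory.Q.mapIso (CochainComplex.mappingCone.mapHomologicalComplexIso φ (Scheme.Modules.pullback i')).symm ≪≫
          (lpullIso i' hLK).symm)
    have hLz : ∀ j, b < j → IsZero (DCoh.HD L j) := fun j hj => by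
      refine (DerivedCategory.HomologySequence.exact₃ T hT j (j + 1) rfl).isZero_X₂ (IsZero.eq_of_src ?_ _ _)
        (IsZero.eq_of_tgt ?_ _ _)
      · exact ((((Scheme.Modules.restrictFunctor W.ι).map_isZero (hzY j hj)).of_iso (hdRhoIso W.ι K j))).of_iso
          ((DerivedCategory.homologyFunctor _ j).mapIso eP)
      · exact (ShortComplex.isZero_homology_of_isZero_X₂ _ (hsz (j + 1) (by omega))).of_iso
          ((DerivedCategory.homologyFunctorFactors _ (j + 1)).app sF)
    let x' : (W : Scheme.{u}) := ⟨i.base y, hW⟩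
    let y' : (i ⁻¹ᵁ W : Scheme.{u}) := ⟨y, hW⟩
    have hy' : i'.base y' = x' := Subtype.ext (morphismRestrict_base_coe i W y')
    haveI : Epi (T'.map ((DerivedCategory.homologyFunctor _ b).map T.mor₁)) := by
      let e := DerivedCategory.homologyFunctorFactors (W : Scheme.{u}).Modules b
      change Epi (T'.map ((DerivedCategory.Q ⋙ DerivedCategory.homologyFunctor _ b).map φ))
      rw [← NatIso.naturality_2 e φ, Functor.map_comp, Functor.map_comp]
      exact epi_comp' inferInstance (epi_comp' hepi inferInstance)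
    have hLb : IsZero (T'.obj (DCoh.HD L b)) := by
      have hex := (DerivedCategory.HomologySequence.exact₃ T hT b (b + 1) rfl).map T'
      refine hex.isZero_X₂ ?_ (IsZero.eq_of_tgt (T'.map_isZero ?_) _ _)
      · refine (cancel_epi (T'.map ((DerivedCategory.homologyFunctor _ b).map T.mor₁))).1 ?_
        show T'.map ((DerivedCategory.homologyFunctor _ b).map T.mor₁) ≫
          T'.map ((DerivedCategory.homologyFunctor _ b).map T.mor₂) = _ ≫ 0
        rw [← Functor.map_comp, ← Functor.map_comp, comp_distTriang_mor_zero₁₂ T hT, Functor.map_zero,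
          Functor.map_zero, comp_zero]
      · exact (ShortComplex.isZero_homology_of_isZero_X₂ _ (hsz (b + 1) (by omega))).of_iso
          ((DerivedCategory.homologyFunctorFactors _ (b + 1)).app sF)
    have hLiz : ∀ j, b < j → IsZero (DCoh.HD ((DCoh.Lpull i').obj L) j) := fun j hj =>
      ((Scheme.Modules.pullback i').map_isZero (hLz j hj)).of_iso (nonempty_hd_lpull i' L j).some
    have hLib : IsZero ((DerSch.stalkFunctor _ y').obj (DCoh.HD ((DCoh.Lpull i').obj L) b)) := by
      refine IsZero.of_iso ?_ ((DerSch.stalkFunctor _ y').mapIso (nonempty_hd_lpull i' L b).some ≪≫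
        (stalkPullbackIso i' y').app _)
      refine Functor.map_isZero (ModuleCat.extendScalars _) ?_
      rw [hy']
      exact hLb
    obtain ⟨O, hyO, hO⟩ :=
      exists_isZero_restrict (isFT_top (hLpc.mono (show m ≤ b by omega)) hLiz) y' hLib
    let O' := imageOpen i' O
    refine ⟨_, O'.ι ≫ W.ι, inferInstance, ⟨⟨x', ⟨y', hyO, hy'⟩⟩, rfl⟩, ?_⟩
    let i'' := i'.resLE O' O (le_preimage i' O)
    haveI : Surjective i'' := surjective_resLE i' O
    haveI := hasLpull i''
    obtain ⟨eO⟩ := PerfGen7.nonempty_lpull_square i' i'' O'.ι O.ι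
      (Scheme.Hom.resLE_comp_ι i' (le_preimage i' O)).symm L
    have h3 : LocPC m ((rho O'.ι).obj L) := by
      refine ih i'' m _ (fun j hj => ?_) ((hLpc.restrict _).of_iso eO)
      refine IsZero.of_iso ?_ ((DerivedCategory.homologyFunctor _ j).mapIso eO.symm ≪≫ hdRhoIso O.ι _ j)
      rcases eq_or_lt_of_le (show b ≤ j by omega) with rfl | hj'
      · exact hO
      · exact (Scheme.Modules.restrictFunctor _).map_isZero (hLiz j hj')
    have h4 : LocPC m (DerivedCategory.Q.obj sF) := fun w =>
      ⟨_, 𝟙 _, inferInstance, ⟨w, rfl⟩, _, ((rhoQ (𝟙 _)).app _).inv,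
        isStrictlyPerfect_restrict (𝟙 _) ⟨⟨b, b, fun l hl => hsz l (by omega)⟩, hsf⟩, isPcMap_of_isIso _ _⟩
    have h5 := (locPC_two_of_three m ((rho O'.ι).mapTriangle.obj T) ((rho O'.ι).map_distinguished T hT)).2.1
      (h4.restrict O'.ι) h3
    exact h5.of_iso ((rho O'.ι).mapIso eP ≪≫ rhoComp O'.ι W.ι _ rfl K)

/-- Pseudo-coherence descends along fppf morphisms. -/
theorem locPC_of_lpull (i : X ⟶ Y) [Flat i] [Surjective i] [LocallyOfFinitePresentation i] [DCoh.HasLpull i]
    (K : DCoh.D Y) (m : ℤ) (h : LocPC m ((DCoh.Lpull i).obj K)) : LocPC m K := by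
  refine LocPC.of_local fun x => ?_
  obtain ⟨y, rfl⟩ := i.surjective x
  obtain ⟨U, j, _, ⟨u', rfl⟩, P, α, hP, hα⟩ := h y
  obtain ⟨a, b, hab⟩ := hP.1
  let V := j.opensRange
  let O := imageOpen i V
  let i' := i.resLE O V (le_preimage i V)
  haveI : Surjective i' := surjective_resLE i V
  haveI := hasLpull i'
  obtain ⟨eO⟩ := PerfGen7.nonempty_lpull_square i i' O.ι V.ι (Scheme.Hom.resLE_comp_ι i (le_preimage i V)).symm K
  refine ⟨_, O.ι, inferInstance, ⟨⟨_, ⟨j.base u', ⟨u', rfl⟩, rfl⟩⟩, rfl⟩, ?_⟩
  refine locPC_of_lpull_aux ((max b m + 1 - m).toNat) i' m _ (fun l hl => ?_) ((h.restrict _).of_iso eO)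
  refine IsZero.of_iso ?_ ((DerivedCategory.homologyFunctor _ l).mapIso eO.symm ≪≫ hdRhoIso V.ι _ l)
  have hz : IsZero (DCoh.HD ((DCoh.Lpull i).obj K) l |>.restrict j) := by
    haveI := hα.1 l (by omega)
    exact (((ShortComplex.isZero_homology_of_isZero_X₂ _ (hab l (Or.inr (by omega)))).of_iso
      ((DerivedCategory.homologyFunctorFactors _ l).app P)).of_iso
      (asIso ((DerivedCategory.homologyFunctor _ l).map α)).symm).of_iso (hdRhoIso j _ l).symm
  let s := IsOpenImmersion.lift j V.ι (by rw [Scheme.Opens.range_ι]; exact le_rfl)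
  haveI : IsOpenImmersion (s ≫ j) := by rw [IsOpenImmersion.lift_fac]; infer_instance
  haveI : IsOpenImmersion s := IsOpenImmersion.of_comp s j
  exact ((Scheme.Modules.restrictFunctor s).map_isZero hz).of_iso
    (restrict₂Iso s j V.ι (IsOpenImmersion.lift_fac _ _ _) _).symm

end Groth.Agent.FppfPC7

end
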